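import Mathlib.RingTheory.Smooth.Basic
import Mathlib.RingTheory.Etale.Kaehler
import Mathlib.RingTheory.Smooth.Locus
import Mathlib.Algebra.Module.Projective

/-!
Square zero extensions of algebras generically formally smooth: injectivity of the conormal map.
-/

set_option autoImplicit false

universe u

open TensorProduct KaehlerDifferential

namespace Groth.Agent.SqZeroExtLib

variable {A B : Type u} [CommRing A] [CommRing B] [Algebra A B] (P : Algebra.Extension.{u} A B)

/-- The polynomial algebra on the extension ring, mapped to `B`. -/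
noncomputable abbrev polyCover : Algebra.Extension.{u} A B :=
  Algebra.Extension.ofSurjective
    ((IsScalarTower.toAlgHom A P.Ring B).comp (MvPolynomial.aeval (R := A) (id : P.Ring → P.Ring)))
    (P.algebraMap_surjective.comp fun e => ⟨MvPolynomial.X e, MvPolynomial.aeval_X _ _⟩)

/-- The canonical map from the cover. -/
noncomputable def polyCoverHom : (polyCover P).Hom P where
  toRingHom := (MvPolynomial.aeval (R := A) (id : P.Ring → P.Ring)).toRingHom
  toRingHom_algebraMap x := by
    change MvPolynomial.aeval id (MvPolynomial.C x) = _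
    rw [MvPolynomial.aeval_C]
    rfl
  algebraMap_toRingHom x := rfl

instance : Algebra.FormallySmooth A (polyCover P).Ring :=
  inferInstanceAs (Algebra.FormallySmooth A (MvPolynomial P.Ring A))

theorem exists_cycle_lift (m : P.Cotangent) (hm : P.cotangentComplex m = 0) :
    ∃ m' : (polyCover P).Cotangent, (polyCover P).cotangentComplex m' = 0 ∧
      Algebra.Extension.Cotangent.map (polyCoverHom P) m' = m := by
  obtain ⟨⟨x, hx⟩, rfl⟩ := Algebra.Extension.Cotangent.mk_surjective m
  set P0 := polyCover P
  set π : P0.Ring →+* P.Ring := (polyCoverHom P).toRingHom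
  let X : P.Ring → P0.Ring := fun e => (MvPolynomial.X e : MvPolynomial P.Ring A)
  have hsec : ∀ e, π (X e) = e := fun e => MvPolynomial.aeval_X _ _
  have halg : ∀ p, algebraMap P.Ring B (π p) = algebraMap P0.Ring B p := fun _ => rfl
  let d : P0.Ring →+ P0.CotangentSpace :=
    { toFun := fun p => 1 ⊗ₜ KaehlerDifferential.D A P0.Ring p
      map_zero' := by rw [map_zero, tmul_zero]
      map_add' := fun p q => by rw [map_add, tmul_add] }
  have hd : ∀ p q, d (p * q) = algebraMap P0.Ring B p • d q + algebraMap P0.Ring B q • d p := fun p q => by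
    simp only [d, AddMonoidHom.coe_mk, ZeroHom.coe_mk]
    rw [Derivation.leibniz, tmul_add, tmul_smul, tmul_smul, algebraMap_smul, algebraMap_smul]
  let K : Submodule B P0.CotangentSpace :=
    { carrier := {z | ∃ p, π p = 0 ∧ d p = z}
      zero_mem' := ⟨0, map_zero _, map_zero _⟩
      add_mem' := by
        rintro a b ⟨p, hp, rfl⟩ ⟨q, hq, rfl⟩
        exact ⟨p + q, by rw [map_add, hp, hq, add_zero], map_add _ _ _⟩
      smul_mem' := by
        rintro c _ ⟨p, hp, rfl⟩
        obtain ⟨q, rfl⟩ := P0.algebraMap_surjective c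
        refine ⟨q * p, by rw [map_mul, hp, mul_zero], ?_⟩
        rw [hd, ← halg p, hp, map_zero, zero_smul, add_zero] }
  have hwd : ∀ p q, π p = π q → K.mkQ (d p) = K.mkQ (d q) := fun p q h => by
    rw [Submodule.mkQ_apply, Submodule.mkQ_apply, Submodule.Quotient.eq]
    exact ⟨p - q, by rw [map_sub, h, sub_self], map_sub _ _ _⟩
  let D0 : P.Ring →ₗ[A] P0.CotangentSpace ⧸ K :=
    { toFun := fun e => K.mkQ (d (X e))
      map_add' := fun a b => (hwd _ (X a + X b) (by rw [map_add, hsec, hsec, hsec])).trans (by rw [map_add, map_add])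
      map_smul' := fun a e => by
        rw [hwd (X (a • e)) (algebraMap A P0.Ring a * X e) (by
          rw [map_mul, hsec, hsec, Algebra.smul_def]
          exact congrArg (· * e) ((polyCoverHom P).toRingHom_algebraMap a).symm), hd]
        have : d (algebraMap A P0.Ring a) = 0 := by simp [d]
        rw [this, smul_zero, add_zero, map_smul, ← IsScalarTower.algebraMap_apply, algebraMap_smul]
        rfl }
  let D : Derivation A P.Ring (P0.CotangentSpace ⧸ K) := Derivation.mk' D0 fun a b => by
    rw [← algebraMap_smul B a, ← algebraMap_smul B b]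
    change K.mkQ (d _) = algebraMap P.Ring B a • K.mkQ (d _) + algebraMap P.Ring B b • K.mkQ (d _)
    rw [hwd (X (a * b)) (X a * X b) (by rw [map_mul, hsec, hsec, hsec]), hd,
      map_add, map_smul, map_smul, ← halg, ← halg, hsec, hsec]
  have h0 : D x = 0 := by
    have := congrArg (D.liftKaehlerDifferential.liftBaseChange B) hm
    rw [map_zero, Algebra.Extension.cotangentComplex_mk, LinearMap.liftBaseChange_tmul, one_smul,
      Derivation.liftKaehlerDifferential_comp_D] at this
    exact this
  obtain ⟨p, hp, hdp⟩ := (Submodule.Quotient.mk_eq_zero K).1 h0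
  have hmem : X x - p ∈ P0.ker := by
    change algebraMap P0.Ring B _ = 0
    rw [← halg, map_sub π, hsec, hp, sub_zero]
    exact hx
  refine ⟨.mk ⟨X x - p, hmem⟩, ?_, ?_⟩
  · rw [Algebra.Extension.cotangentComplex_mk]
    change d (X x - p) = 0
    rw [map_sub, hdp, sub_self]
  · rw [Algebra.Extension.Cotangent.map_mk]
    congr 1
    refine Subtype.ext ?_
    change π (X x - p) = x
    rw [map_sub, hsec, hp, sub_zero]

theorem eq_zero_of_forall_smul {M : Type u} [AddCommGroup M] [Module B M] [Module.Projective B M] [IsReduced B]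
    (m : M) (h : ∀ p ∈ minimalPrimes B, ∃ s ∉ p, s • m = 0) : m = 0 := by
  obtain ⟨s, hs⟩ := Module.projective_def.1 ‹Module.Projective B M›
  have : s m = 0 := by
    ext i
    rw [Finsupp.zero_apply]
    have hn : s m i ∈ sInf (minimalPrimes B) := by
      refine Submodule.mem_sInf.2 fun p hp => ?_
      obtain ⟨t, ht, ht0⟩ := h p hp
      have : t * s m i = 0 := by rw [← smul_eq_mul, ← Finsupp.smul_apply, ← map_smul, ht0, map_zero, Finsupp.zero_apply]
      exact ((hp.1.1).mem_or_mem (this ▸ zero_mem _)).resolve_left ht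
    rw [minimalPrimes, Ideal.sInf_minimalPrimes, Ideal.radical_eq_iff.2 (Ideal.isRadical_bot_iff.2 inferInstance)] at hn
    exact hn
  rw [← hs m, this, map_zero]

theorem cotangentComplex_injective [IsReduced B] [Module.Projective B P.Cotangent]
    (hsm : ∀ p : PrimeSpectrum B, p.asIdeal ∈ minimalPrimes B → Algebra.IsSmoothAt A p.asIdeal) :
    Function.Injective P.cotangentComplex := by
  refine (injective_iff_map_eq_zero _).2 fun m hm => eq_zero_of_forall_smul (B := B) m fun p hp => ?_
  obtain ⟨m', hm', rfl⟩ := exists_cycle_lift P m hm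
  have : p.IsPrime := hp.1.1
  have hfs : Algebra.FormallySmooth A (Localization.AtPrime p) := hsm ⟨p, this⟩ hp
  have : Subsingleton (Algebra.H1Cotangent A (Localization.AtPrime p)) := inferInstance
  let e := (polyCover P).equivH1CotangentOfFormallySmooth
  obtain ⟨s, hs⟩ := (IsLocalizedModule.eq_zero_iff p.primeCompl
    (Algebra.H1Cotangent.map A A B (Localization.AtPrime p))).1
      (Subsingleton.elim (Algebra.H1Cotangent.map A A B (Localization.AtPrime p) (e ⟨m', hm'⟩)) 0)
  refine ⟨s.1, s.2, ?_⟩
  rw [Submonoid.smul_def, ← map_smul, LinearEquiv.map_eq_zero_iff] at hs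
  rw [← map_smul, show s.1 • m' = 0 from congrArg Subtype.val hs, map_zero]

end Groth.Agent.SqZeroExtLib
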