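import Groth.Agent.Lib.SqZeroExt.Injective
import Mathlib.Algebra.TrivSqZeroExt.Basic

/-!
Square zero extensions realizing extensions of the differentials; comparison by conormal sequences.
-/

set_option autoImplicit false

universe u

open TensorProduct KaehlerDifferential

set_option linter.style.haveILetI false

namespace Groth.Agent.SqZeroExtLib

variable {A B : Type u} [CommRing A] [CommRing B] [Algebra A B]

theorem cotangent_eq_of_sq_zero {P : Algebra.Extension.{u} A B} (hsq : P.ker ^ 2 = ⊥) {x y : P.ker}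
    (h : Algebra.Extension.Cotangent.mk x = Algebra.Extension.Cotangent.mk y) : x = y := by
  have := congrArg Algebra.Extension.Cotangent.val h
  rw [Algebra.Extension.Cotangent.val_mk, Algebra.Extension.Cotangent.val_mk, Ideal.toCotangent_eq, hsq,
    Ideal.mem_bot, sub_eq_zero] at this
  exact Subtype.ext this

theorem one_tmul_D_mul (P : Algebra.Extension.{u} A B) (a b : P.Ring) :
    (1 : B) ⊗ₜ[P.Ring] D A P.Ring (a * b) =
      algebraMap P.Ring B a • ((1 : B) ⊗ₜ[P.Ring] D A P.Ring b) + algebraMap P.Ring B b • ((1 : B) ⊗ₜ[P.Ring] D A P.Ring a) := by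
  rw [Derivation.leibniz, tmul_add, tmul_smul, tmul_smul, algebraMap_smul, algebraMap_smul]

theorem toKaehler_one_tmul (P : Algebra.Extension.{u} A B) (e : P.Ring) :
    P.toKaehler ((1 : B) ⊗ₜ[P.Ring] D A P.Ring e) = D A B (algebraMap P.Ring B e) := by
  simp [Algebra.Extension.toKaehler, KaehlerDifferential.mapBaseChange_tmul]

theorem eq_of_data {P : Algebra.Extension.{u} A B} (hsq : P.ker ^ 2 = ⊥) (hinj : Function.Injective P.cotangentComplex)
    {e e' : P.Ring} (h : algebraMap P.Ring B e = algebraMap P.Ring B e')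
    (hd : (1 : B) ⊗ₜ[P.Ring] D A P.Ring e = (1 : B) ⊗ₜ[P.Ring] D A P.Ring e') : e = e' := by
  have hmem : e - e' ∈ P.ker := by
    change algebraMap P.Ring B _ = 0
    rw [map_sub, h, sub_self]
  have : P.cotangentComplex (.mk ⟨e - e', hmem⟩) = P.cotangentComplex (.mk 0) := by
    rw [map_zero Algebra.Extension.Cotangent.mk, map_zero P.cotangentComplex,
      Algebra.Extension.cotangentComplex_mk, map_sub, tmul_sub, hd, sub_self]
  exact sub_eq_zero.1 (congrArg Subtype.val (cotangent_eq_of_sq_zero hsq (hinj this)))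

theorem exists_of_data (P : Algebra.Extension.{u} A B) (b : B) (n : P.CotangentSpace)
    (h : P.toKaehler n = D A B b) :
    ∃ e : P.Ring, algebraMap P.Ring B e = b ∧ (1 : B) ⊗ₜ[P.Ring] D A P.Ring e = n := by
  obtain ⟨e, rfl⟩ := P.algebraMap_surjective b
  obtain ⟨m, hm⟩ := (P.exact_cotangentComplex_toKaehler (n - 1 ⊗ₜ D A P.Ring e)).1 (by
    rw [map_sub, h, toKaehler_one_tmul, sub_self])
  obtain ⟨x, rfl⟩ := Algebra.Extension.Cotangent.mk_surjective m
  refine ⟨e + x.1, ?_, ?_⟩
  · rw [map_add, show algebraMap P.Ring B x.1 = 0 from x.2, add_zero]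
  · rw [map_add, tmul_add, ← Algebra.Extension.cotangentComplex_mk, hm, add_sub_cancel]

theorem exists_hom_of_iso (P P' : Algebra.Extension.{u} A B) (hsq : P.ker ^ 2 = ⊥) (hsq' : P'.ker ^ 2 = ⊥)
    (hinj : Function.Injective P.cotangentComplex)
    (e₁ : P.Cotangent ≃ₗ[B] P'.Cotangent) (e₂ : P.CotangentSpace ≃ₗ[B] P'.CotangentSpace)
    (h₁ : ∀ x, e₂ (P.cotangentComplex x) = P'.cotangentComplex (e₁ x))
    (h₂ : ∀ y, P'.toKaehler (e₂ y) = P.toKaehler y) :
    ∃ f : P.Hom P', Function.Bijective f.toRingHom ∧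
      Algebra.Extension.Cotangent.map f = e₁.toLinearMap := by
  have hinj' : Function.Injective P'.cotangentComplex := fun a b h => by
    obtain ⟨a, rfl⟩ := e₁.surjective a
    obtain ⟨b, rfl⟩ := e₁.surjective b
    rw [← h₁, ← h₁] at h
    rw [hinj (e₂.injective h)]
  choose f hf hfd using fun e : P.Ring => exists_of_data P' (algebraMap P.Ring B e) (e₂ (1 ⊗ₜ D A P.Ring e))
    (by rw [h₂, toKaehler_one_tmul])
  have uniq : ∀ e y, algebraMap P'.Ring B y = algebraMap P.Ring B e →
      (1 : B) ⊗ₜ[P'.Ring] D A P'.Ring y = e₂ (1 ⊗ₜ D A P.Ring e) → f e = y :=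
    fun e y hy hyd => eq_of_data hsq' hinj' ((hf e).trans hy.symm) ((hfd e).trans hyd.symm)
  let F : P.Ring →+* P'.Ring :=
    { toFun := f
      map_one' := uniq _ _ (by rw [map_one, map_one]) (by rw [Derivation.map_one_eq_zero, Derivation.map_one_eq_zero, tmul_zero, tmul_zero, map_zero])
      map_zero' := uniq _ _ (by rw [map_zero, map_zero]) (by rw [map_zero, map_zero, tmul_zero, tmul_zero, map_zero])
      map_add' := fun a b => uniq _ _ (by rw [map_add, map_add, hf, hf])
        (by rw [map_add, map_add, tmul_add, tmul_add, map_add, hfd, hfd])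
      map_mul' := fun a b => uniq _ _ (by rw [map_mul, map_mul, hf, hf])
        (by rw [one_tmul_D_mul, one_tmul_D_mul, map_add, map_smul, map_smul, hfd, hfd, hf, hf]) }
  let G : P.Hom P' :=
    { toRingHom := F
      toRingHom_algebraMap := fun a => uniq _ _
        ((IsScalarTower.algebraMap_apply A P'.Ring B a).symm.trans (IsScalarTower.algebraMap_apply A P.Ring B a))
        (by rw [Derivation.map_algebraMap, Derivation.map_algebraMap, tmul_zero, tmul_zero, map_zero])
      algebraMap_toRingHom := fun e => hf e }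
  refine ⟨G, ⟨fun a b h => eq_of_data hsq hinj ?_ (e₂.injective ?_), fun y => ?_⟩, ?_⟩
  · rw [← hf a, ← hf b]
    exact congrArg _ h
  · rw [← hfd a, ← hfd b]
    exact congrArg (fun z => (1 : B) ⊗ₜ[P'.Ring] D A P'.Ring z) h
  · obtain ⟨e, he, hed⟩ := exists_of_data P (algebraMap P'.Ring B y) (e₂.symm (1 ⊗ₜ D A P'.Ring y))
      (by rw [← h₂, LinearEquiv.apply_symm_apply, toKaehler_one_tmul])
    exact ⟨e, uniq e y he.symm (by rw [hed, LinearEquiv.apply_symm_apply])⟩
  · refine LinearMap.ext fun m => ?_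
    obtain ⟨x, rfl⟩ := Algebra.Extension.Cotangent.mk_surjective m
    apply hinj'
    rw [LinearEquiv.coe_coe, ← h₁, Algebra.Extension.Cotangent.map_mk, Algebra.Extension.cotangentComplex_mk,
      Algebra.Extension.cotangentComplex_mk]
    exact hfd x.1

section Realize

variable (N : Type u) [AddCommGroup N] [Module B N] [Module Bᵐᵒᵖ N] [IsCentralScalar B N] [Module A N]
  [IsScalarTower A B N] [IsScalarTower A Bᵐᵒᵖ N] (q : N →ₗ[B] Ω[B⁄A])

/-- Pairs `(b, n)` with `q n = d b`. -/
def realizeSub : Subalgebra A (TrivSqZeroExt B N) where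
  carrier := {z | q z.snd = D A B z.fst}
  mul_mem' {y z} (hy : q y.snd = _) (hz : q z.snd = _) := by
    change q (y * z).snd = D A B (y * z).fst
    rw [TrivSqZeroExt.fst_mul, TrivSqZeroExt.snd_mul, Derivation.leibniz, map_add, map_smul, op_smul_eq_smul,
      map_smul, hy, hz]
  one_mem' := by simp
  add_mem' {y z} (hy : q y.snd = _) (hz : q z.snd = _) := by
    change q (y + z).snd = D A B (y + z).fst
    rw [TrivSqZeroExt.fst_add, TrivSqZeroExt.snd_add, map_add, map_add, hy, hz]
  zero_mem' := by simp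
  algebraMap_mem' a := by simp [TrivSqZeroExt.algebraMap_eq_inl']

theorem exists_realize {M : Type u} [AddCommGroup M] [Module B M]
    (i : M →ₗ[B] N) (hi : Function.Injective i) (hq : Function.Surjective q) (hex : Function.Exact i q) :
    ∃ P : Algebra.Extension.{u} A B, P.ker ^ 2 = ⊥ ∧
      ∃ (e₁ : P.Cotangent ≃ₗ[B] M) (e₂ : P.CotangentSpace ≃ₗ[B] N),
        (∀ x, e₂ (P.cotangentComplex x) = i (e₁ x)) ∧ (∀ y, q (e₂ y) = P.toKaehler y) := by
  let pr : realizeSub N q →ₐ[A] B := (TrivSqZeroExt.fstHom A B N).comp (realizeSub N q).val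
  have hpr : Function.Surjective pr := fun b => by
    obtain ⟨n, hn⟩ := hq (D A B b)
    exact ⟨⟨TrivSqZeroExt.inl b + TrivSqZeroExt.inr n, show q _ = D A B _ by simp [hn]⟩, by simp [pr]⟩
  let P : Algebra.Extension.{u} A B := Algebra.Extension.ofSurjective pr hpr
  have hfst : ∀ z : realizeSub N q, algebraMap P.Ring B z = z.1.fst := fun _ => rfl
  have hker : ∀ z : realizeSub N q, (z : P.Ring) ∈ P.ker ↔ z.1.fst = 0 := fun _ => Iff.rfl
  have hsq : P.ker ^ 2 = ⊥ := by
    rw [pow_two, eq_bot_iff, Ideal.mul_le]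
    intro y hy z hz
    refine Ideal.mem_bot.2 (Subtype.ext (TrivSqZeroExt.ext ?_ ?_))
    · change (y.1 * z.1).fst = 0
      rw [TrivSqZeroExt.fst_mul, (hker y).1 hy, zero_mul]
    · change (y.1 * z.1).snd = 0
      rw [TrivSqZeroExt.snd_mul, (hker y).1 hy, (hker z).1 hz, zero_smul, MulOpposite.op_zero, zero_smul, add_zero]
  letI : Module P.Ring N := Module.compHom N (algebraMap P.Ring B)
  haveI : IsScalarTower P.Ring B N := ⟨fun r b n => by
    change (algebraMap P.Ring B r * b) • n = algebraMap P.Ring B r • (b • n)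
    rw [mul_smul]⟩
  haveI : IsScalarTower A P.Ring N := ⟨fun a r n => by
    change algebraMap P.Ring B (a • r) • n = a • (algebraMap P.Ring B r • n)
    rw [← smul_assoc]
    rw [Algebra.smul_def, Algebra.smul_def, map_mul, ← IsScalarTower.algebraMap_apply]
    ⟩
  let dl : P.Ring →ₗ[A] N :=
    { toFun := fun z => (z : realizeSub N q).1.snd
      map_add' := fun _ _ => rfl
      map_smul' := fun _ _ => rfl }
  let dd : Derivation A P.Ring N := Derivation.mk' dl fun y z => by
    change ((y : realizeSub N q).1 * (z : realizeSub N q).1).snd =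
      algebraMap P.Ring B y • (z : realizeSub N q).1.snd + algebraMap P.Ring B z • (y : realizeSub N q).1.snd
    rw [TrivSqZeroExt.snd_mul, op_smul_eq_smul]
    rfl
  let h : P.CotangentSpace →ₗ[B] N := dd.liftKaehlerDifferential.liftBaseChange B
  have hh : ∀ z : realizeSub N q, h ((1 : B) ⊗ₜ[P.Ring] D A P.Ring z) = z.1.snd := fun z => by
    simp only [h, LinearMap.liftBaseChange_tmul, one_smul, Derivation.liftKaehlerDifferential_comp_D]
    rfl
  have hqh : ∀ y, q (h y) = P.toKaehler y := by
    intro y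
    induction y using TensorProduct.induction_on with
    | zero => simp
    | add a b ha hb => simp [ha, hb]
    | tmul b w =>
      have hw : w ∈ Submodule.span P.Ring (Set.range (D A P.Ring)) := by rw [span_range_derivation]; trivial
      induction hw using Submodule.span_induction with
      | mem w hw =>
        obtain ⟨z, rfl⟩ := hw
        rw [show b ⊗ₜ[P.Ring] D A P.Ring z = b • ((1 : B) ⊗ₜ[P.Ring] D A P.Ring z) by
          rw [smul_tmul', smul_eq_mul, mul_one], map_smul, map_smul, map_smul, hh, toKaehler_one_tmul]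
        exact congrArg (b • ·) z.2
      | zero => simp
      | add a c _ _ ha hc => simp [tmul_add, ha, hc]
      | smul r a _ ha =>
        rw [tmul_smul, ← algebraMap_smul B r, map_smul, map_smul, map_smul, ha]
  let em : M → P.ker := fun m => ⟨⟨TrivSqZeroExt.inr (i m), show q _ = D A B _ by simp [hex.apply_apply_eq_zero]⟩, rfl⟩
  let E : M →ₗ[B] P.Cotangent :=
    { toFun := fun m => .mk (em m)
      map_add' := fun m m' => by
        rw [← map_add]
        congr 1
        refine Subtype.ext (Subtype.ext ?_)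
        change TrivSqZeroExt.inr (i (m + m')) = TrivSqZeroExt.inr (i m) + TrivSqZeroExt.inr (i m')
        rw [map_add, TrivSqZeroExt.inr_add]
      map_smul' := fun b m => by
        obtain ⟨r, rfl⟩ := P.algebraMap_surjective b
        rw [RingHom.id_apply, algebraMap_smul B r (Algebra.Extension.Cotangent.mk (em m)), ← map_smul]
        congr 1
        refine Subtype.ext (Subtype.ext ?_)
        change TrivSqZeroExt.inr (i (algebraMap P.Ring B r • m)) = (r : realizeSub N q).1 * TrivSqZeroExt.inr (i m)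
        refine TrivSqZeroExt.ext (by simp) ?_
        simp [hfst] }
  have hE : ∀ m, h (P.cotangentComplex (E m)) = i m := fun m => by
    change h (P.cotangentComplex (.mk (em m))) = _
    rw [Algebra.Extension.cotangentComplex_mk, hh]
    exact TrivSqZeroExt.snd_inr N (i m)
  have hEb : Function.Bijective E := by
    refine ⟨fun a b hab => hi (by rw [← hE a, ← hE b, hab]), fun c => ?_⟩
    obtain ⟨⟨z, hz⟩, rfl⟩ := Algebra.Extension.Cotangent.mk_surjective c
    obtain ⟨m, hm⟩ := (hex _).1 (show q z.1.snd = 0 by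
      rw [z.2, (hker z).1 hz, map_zero])
    exact ⟨m, congrArg _ (Subtype.ext (Subtype.ext (TrivSqZeroExt.ext
      (by simp [em, (hker z).1 hz]) (by simp [em, hm]))))⟩
  have hh' : Function.Bijective h := by
    refine ⟨(injective_iff_map_eq_zero h).2 fun y hy => ?_, fun n => ?_⟩
    · obtain ⟨c, rfl⟩ := (P.exact_cotangentComplex_toKaehler y).1 (by rw [← hqh, hy, map_zero])
      obtain ⟨m, rfl⟩ := hEb.2 c
      rw [hE] at hy
      rw [hi (hy.trans (map_zero i).symm), map_zero, map_zero]
    · obtain ⟨y, hy⟩ := P.toKaehler_surjective (q n)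
      obtain ⟨m, hm⟩ := (hex (n - h y)).1 (by rw [map_sub, hqh, hy, sub_self])
      exact ⟨y + P.cotangentComplex (E m), by rw [map_add, hE, hm, add_sub_cancel]⟩
  refine ⟨P, hsq, (LinearEquiv.ofBijective E hEb).symm, LinearEquiv.ofBijective h hh', fun x => ?_, hqh⟩
  obtain ⟨m, rfl⟩ := (LinearEquiv.ofBijective E hEb).surjective x
  rw [LinearEquiv.symm_apply_apply]
  exact hE m

end Realize

end Groth.Agent.SqZeroExtLib
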